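import Groth.Agent.FSchExist.Thicken
import Groth.Agent.FormAlg.ModSysTower
import Groth.Agent.FSchCoh.Compl

/-!
Systems of modules on a formal completion as coherent formal modules, for a general ideal of the base.
-/

set_option autoImplicit false
set_option maxHeartbeats 1000000
set_option linter.style.haveILetI false
set_option backward.isDefEq.respectTransparency false
set_option backward.isDefEq.respectTransparency.types false
universe u

namespace Groth.Agent.FSchExist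

open CategoryTheory CategoryTheory.Limits AlgebraicGeometry TopologicalSpace Opposite
open Groth.Agent.FormAlg (sysObj sysPull sysTn sysFun sysFun_tn adjMap adjMap_comm pullPullIso)

noncomputable section

variable {A : Type u} [CommRing A] {X : Scheme.{u}} [X.Over (Spec (CommRingCat.of A))] (I : Ideal A)
  {𝓘 : X.IdealSheafData} (h𝓘 : ∀ V : X.affineOpens, 𝓘.ideal V = I.map (W7Cech.secRing A V.1))

local notation "j" => FSch.completionToX X 𝓘

include h𝓘 in
theorem ker_completionToX (n : ℕ) (V : X.affineOpens) :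
    (j n).ker.ideal V = (I ^ (n + 1)).map (W7Cech.secRing A V.1) := by
  rw [Scheme.IdealSheafData.ker_subschemeι, Scheme.IdealSheafData.ideal_pow, Pi.pow_apply, h𝓘 V, Ideal.map_pow]

variable (𝔐 : FSch.ModSys (FSch.completionAlong X 𝓘))

include h𝓘 in
theorem isCohFormal_sysFun (hcoh : 𝔐.IsCoh) : Formal.IsCohFormal I (sysFun 𝔐) := by
  refine ⟨fun n => ?_, fun n a ha => ?_, fun n => ?_⟩
  · haveI : (𝔐.F n).IsQuasicoherent := (hcoh n).1
    exact QC.isCoh_pushforward_of_isFinite (j n) (hcoh n).2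
  · exact smulMod_push_eq_zero (I ^ (n + 1)) (j n) (ker_completionToX I h𝓘 n) (𝔐.F n) ha
  · obtain ⟨α, hα⟩ := exists_iso_modPow_pow (j n) I (n + 1) (ker_completionToX I h𝓘 n) (sysObj 𝔐 (n + 1))
    have e : W7Exist.tn (sysFun 𝔐) n = Formal.modPowπ I (n + 1) (sysObj 𝔐 (n + 1)) ≫
        α.hom ≫ (Scheme.Modules.pushforward (j n)).map (sysPull 𝔐 n).hom := by
      rw [sysFun_tn, sysTn, Adjunction.homEquiv_unit, ← Category.assoc, hα]
    have h : Formal.smulFamily (I ^ (n + 1)) (sysObj 𝔐 (n + 1)) ≫ W7Exist.tn (sysFun 𝔐) n = 0 := by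
      rw [e, Formal.modPowπ, ← Category.assoc, cokernel.condition, zero_comp]
    refine ⟨h, ?_⟩
    have e2 : cokernel.desc _ (W7Exist.tn (sysFun 𝔐) n) h =
        α.hom ≫ (Scheme.Modules.pushforward (j n)).map (sysPull 𝔐 n).hom :=
      coequalizer.hom_ext ((cokernel.π_desc _ _ h).trans e)
    exact e2 ▸ inferInstanceAs (IsIso (α.hom ≫ ((Scheme.Modules.pushforward (j n)).mapIso (sysPull 𝔐 n)).hom))

variable (F : X.Modules)

include h𝓘 in
theorem isIso_adjMap (n : ℕ) (α : Formal.modPow I (n + 1) F ≅ sysObj 𝔐 n) :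
    IsIso (adjMap 𝔐 F n (Formal.modPowπ I (n + 1) F ≫ α.hom)) := by
  obtain ⟨β, hβ⟩ := exists_iso_modPow_pow (j n) I (n + 1) (ker_completionToX I h𝓘 n) F
  have e : (Scheme.Modules.pushforward (j n)).map (adjMap 𝔐 F n (Formal.modPowπ I (n + 1) F ≫ α.hom)) =
      β.inv ≫ α.hom := by
    rw [Iso.eq_inv_comp]
    refine coequalizer.hom_ext ?_
    show Formal.modPowπ I (n + 1) F ≫ _ ≫ _ = Formal.modPowπ I (n + 1) F ≫ α.hom
    rw [← Category.assoc, hβ]
    exact ((Scheme.Modules.pullbackPushforwardAdjunction (j n)).homEquiv_unit _ _ _).symm.trans (Equiv.apply_symm_apply _ _)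
  haveI : IsIso ((Scheme.Modules.pushforward (j n)).map (adjMap 𝔐 F n (Formal.modPowπ I (n + 1) F ≫ α.hom))) := by
    rw [e]; infer_instance
  haveI := (FormAlg.pushFF (j n)).full
  haveI := (FormAlg.pushFF (j n)).faithful
  exact isIso_of_reflects_iso _ (Scheme.Modules.pushforward (j n))

theorem app_trans_hom {C D : Type*} [Category* C] [Category* D] {F G H : C ⥤ D} (α : F ≅ G) (β : G ≅ H) (M : C) :
    ((α ≪≫ β).app M).hom = (α.app M ≪≫ β.app M).hom := rfl

theorem gMod_e_hom {Y : Scheme.{u}} (𝔛 : FSch.Sys.{u}) (g : ∀ n, 𝔛.X n ⟶ Y) (hg : ∀ n, 𝔛.ι n ≫ g (n + 1) = g n)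
    (G : Y.Modules) (n : ℕ) :
    ((FSchCoh.gMod 𝔛 g hg G).e n).hom = (FormAlg.ppIso (𝔛.ι n) (g (n + 1)) (g n) (hg n) G).hom := by
  delta FSchCoh.gMod FormAlg.ppIso
  exact app_trans_hom _ _ G

theorem complMod_e_hom (n : ℕ) : ((FSch.complMod 𝓘 F).e n).hom = (pullPullIso (𝓘 := 𝓘) n F).hom :=
  gMod_e_hom (FSch.completionAlong X 𝓘) (FSch.completionToX X 𝓘) (FSchCoh.completion_hg 𝓘) F n

/-- An isomorphism of module systems from levelwise isomorphisms. -/
def complModIso (ψ : ∀ n, (Scheme.Modules.pullback (j n)).obj F ≅ 𝔐.F n)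
    (hcomm : ∀ n, (Scheme.Modules.pullback ((FSch.completionAlong X 𝓘).ι n)).map (ψ (n + 1)).hom ≫ (𝔐.e n).hom =
      (pullPullIso n F).hom ≫ (ψ n).hom) : FSch.complMod 𝓘 F ≅ 𝔐 where
  hom := ⟨fun n => (ψ n).hom, fun n => (hcomm n).trans (congrArg (· ≫ (ψ n).hom) (complMod_e_hom F n).symm)⟩
  inv := ⟨fun n => (ψ n).inv, fun n => by
    refine (congrArg ((Scheme.Modules.pullback _).map (ψ (n + 1)).inv ≫ ·) (complMod_e_hom F n)).trans ?_
    rw [Iso.eq_comp_inv, Category.assoc, ← hcomm n, ← Category.assoc, ← Functor.map_comp, Iso.inv_hom_id,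
      CategoryTheory.Functor.map_id, Category.id_comp]⟩
  hom_inv_id := FSch.ModSys.Hom.ext (funext fun n => (ψ n).hom_inv_id)
  inv_hom_id := FSch.ModSys.Hom.ext (funext fun n => (ψ n).inv_hom_id)

include h𝓘 in
/-- An algebraization of the formal module algebraizes the module system. -/
theorem nonempty_complMod_iso (α : Formal.completion I F ≅ sysFun 𝔐) : Nonempty (FSch.complMod 𝓘 F ≅ 𝔐) := by
  let φ : ∀ n, F ⟶ sysObj 𝔐 n := fun n => Formal.modPowπ I (n + 1) F ≫ α.hom.app (op n)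
  have hφ : ∀ n, φ (n + 1) ≫ sysTn 𝔐 n = φ n := fun n => by
    show (_ ≫ α.hom.app (op (n + 1))) ≫ sysTn 𝔐 n = _
    rw [← sysFun_tn, Category.assoc]
    refine (congrArg (_ ≫ ·) (α.hom.naturality (homOfLE (Nat.le_succ n)).op).symm).trans ?_
    rw [← Category.assoc]
    refine congrArg (· ≫ α.hom.app (op n)) ?_
    rw [show (Formal.completion I F).map (homOfLE (Nat.le_succ n)).op =
      Formal.modPowTrans I (n + 1) F from Functor.ofOpSequence_map_homOfLE_succ _ n]
    exact Formal.modPowπ_trans I (n + 1) F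
  exact ⟨complModIso 𝔐 F (fun n => @asIso _ _ _ _ (adjMap 𝔐 F n (φ n)) (isIso_adjMap I h𝓘 𝔐 F n (α.app (op n))))
    (adjMap_comm 𝔐 F φ hφ)⟩

end

end Groth.Agent.FSchExist
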