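import Groth.Agent.FSchExist.Null
import Groth.Agent.FSchExist.Sys
import Groth.Agent.FSchCoh.Adj
import Groth.Agent.FSchCoh.Compare
import Groth.Agent.FSchCoh.Hom
import Groth.Agent.S0799
import Groth.Agent.S3854
import Groth.Agent.ClSubLib.AnnIdeal
import Groth.Agent.ClSubLib.Support

/-!
A coherent module on a formal completion whose smallest level has proper support is algebraizable.
-/

universe u

open CategoryTheory CategoryTheory.Limits AlgebraicGeometry TopologicalSpace Opposite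
open Groth.Agent.FSchCoh

set_option autoImplicit false
set_option maxHeartbeats 1000000
set_option backward.isDefEq.respectTransparency false
set_option backward.isDefEq.respectTransparency.types false
set_option linter.style.haveILetI false

noncomputable section

namespace Groth.Agent.FSchExist

theorem image_support_subset {Z X : Scheme.{u}} (i : Z ⟶ X) [IsClosedImmersion i] (G : Z.Modules) :
    i '' CohB1.support G ⊆ CohB1.support ((Scheme.Modules.pushforward i).obj G) := by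
  rintro _ ⟨x, hx, rfl⟩ h
  haveI : Subsingleton (KFlat.PStalk (DCoh.toP.obj ((Scheme.Modules.pushforward i).obj G)) (i.base x)) := h
  exact hx (KFlat.pushStalk_bijective i x G).2.subsingleton

theorem support_push {Z X : Scheme.{u}} (i : Z ⟶ X) [IsClosedImmersion i] (G : Z.Modules) :
    CohB1.support ((Scheme.Modules.pushforward i).obj G) = i '' CohB1.support G := by
  refine Set.Subset.antisymm (fun y hy => ?_) (image_support_subset i G)
  obtain ⟨x, rfl⟩ := ClSubLib.support_pushforward_subset i G hy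
  refine ⟨x, fun h => hy ?_, rfl⟩
  haveI : Subsingleton (KFlat.PStalk (DCoh.toP.obj G) x) := h
  exact (KFlat.pushStalk_bijective i x G).1.subsingleton

variable {X : Scheme.{u}} [IsLocallyNoetherian X] (𝓘 : X.IdealSheafData) (hX : (FSch.completionAlong X 𝓘).IsFormal)

theorem hL : (FSch.completionAlong X 𝓘).IsLocNoethFormal := S3854.result X 𝓘

/-- The image in the scheme of the support of the smallest level. -/
def suppX (𝔉 : FSch.ModF (FSch.completionAlong X 𝓘) hX) : Set X :=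
  FSch.completionToX X 𝓘 0 '' supp0 (hL 𝓘) 𝔉

variable {𝓘} {hX}

theorem isClosed_suppX {𝔉 : FSch.ModF (FSch.completionAlong X 𝓘) hX} (h : FSch.IsCohF _ hX 𝔉) :
    IsClosed (suppX 𝓘 hX 𝔉) :=
  (FSch.completionToX X 𝓘 0).isClosedEmbedding.isClosedMap _ (isClosed_supp0 (h𝔛 := hL 𝓘) h)

theorem suppX_mono {𝔉 𝔊 : FSch.ModF (FSch.completionAlong X 𝓘) hX}
    (h : supp0 (hL 𝓘) 𝔉 ⊆ supp0 (hL 𝓘) 𝔊) : suppX 𝓘 hX 𝔉 ⊆ suppX 𝓘 hX 𝔊 := Set.image_mono h

theorem isCoh_complMod {G : X.Modules} (hG : Coh.IsCoh G) : (FSch.complMod 𝓘 G).IsCoh := fun k => by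
  haveI := hG.1
  haveI : SheafOfModules.IsFinitePresentation (R := ModSite.ringSh X.sheaf) G := QC.isFP_of_isQCoh_of_isFT hG.2
  haveI hk : SheafOfModules.IsFinitePresentation (R := ModSite.ringSh ((FSch.completionAlong X 𝓘).X k).sheaf)
      ((Scheme.Modules.pullback (FSch.completionToX X 𝓘 k)).obj G) :=
    @PullFlat.isFinitePresentation_pull _ _ _ _ _ _ _ _ (ModSite.RMor.ofScheme (FSch.completionToX X 𝓘 k)) G ‹_›
  exact ⟨(inferInstance : SheafOfModules.IsQuasicoherent (R := ModSite.ringSh ((FSch.completionAlong X 𝓘).X k).sheaf)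
      ((Scheme.Modules.pullback (FSch.completionToX X 𝓘 k)).obj G)),
    (inferInstance : SheafOfModules.IsFiniteType (R := ModSite.ringSh ((FSch.completionAlong X 𝓘).X k).sheaf)
      ((Scheme.Modules.pullback (FSch.completionToX X 𝓘 k)).obj G))⟩

theorem isCohF_of_iso_complMod {𝔉 : FSch.ModF (FSch.completionAlong X 𝓘) hX} {G : X.Modules} (hG : Coh.IsCoh G)
    (e : 𝔉 ≅ (FSch.complMod 𝓘 G).realMod hX) : FSch.IsCohF _ hX 𝔉 := by
  exact ObjectProperty.prop_of_iso (SheafOfModules.isFinitePresentation (ModSite.ringSh ((FSch.completionAlong X 𝓘).Osh hX))) e.symm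
    (isCohF_realMod (hL 𝓘) (isCoh_complMod (𝓘 := 𝓘) hG))

theorem suppX_subset_of_iso {𝔉 : FSch.ModF (FSch.completionAlong X 𝓘) hX} {G : X.Modules} (hG : Coh.IsCoh G)
    (e : 𝔉 ≅ (FSch.complMod 𝓘 G).realMod hX) : suppX 𝓘 hX 𝔉 ⊆ CohB1.support G := by
  have he : supp0 (hL 𝓘) 𝔉 = CohB1.support ((Scheme.Modules.pullback (FSch.completionToX X 𝓘 0)).obj G) :=
    (supp0_congr (h𝔛 := hL 𝓘) e).trans (ClSubLib.support_congr
      (@asIso _ _ _ _ (((FSch.levelMor (FSch.completionAlong X 𝓘) hX 0).adj.homEquiv _ _).symm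
        (FSch.realProj (FSch.completionAlong X 𝓘) hX (FSch.complMod 𝓘 G).F (FSch.complMod 𝓘 G).toPush 0))
        (isIso_pullProj (FSch.completionAlong X 𝓘) hX (FSch.complMod 𝓘 G) (hL 𝓘) (isCoh_complMod hG) 0)))
  rw [suppX, he, Set.image_subset_iff]
  exact ClSubLib.support_pullback_subset (FSch.completionToX X 𝓘 0) G

theorem exists_algebraization {A : Type u} [CommRing A] [IsNoetherianRing A] (I : Ideal A) [IsAdicComplete I A]
    [X.Over (Spec (CommRingCat.of A))]
    [IsSeparated (X ↘ Spec (CommRingCat.of A))] [LocallyOfFiniteType (X ↘ Spec (CommRingCat.of A))]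
    [QuasiCompact (X ↘ Spec (CommRingCat.of A))]
    (h𝓘 : 𝓘 = (FSch.idealSpec A I).comap (X ↘ Spec (CommRingCat.of A)))
    (𝔉 : FSch.ModF (FSch.completionAlong X 𝓘) hX) (h𝔉 : FSch.IsCohF _ hX 𝔉)
    (hs : ClSub.IsProperOver (X ↘ Spec (CommRingCat.of A)) (suppX 𝓘 hX 𝔉)) :
    ∃ G : X.Modules, Coh.IsCoh G ∧ ClSub.IsProperOver (X ↘ Spec (CommRingCat.of A)) (CohB1.support G) ∧
      Nonempty (𝔉 ≅ (FSch.complMod 𝓘 G).realMod hX) := by
  have hI : ∀ V : X.affineOpens, 𝓘.ideal V = I.map (W7Cech.secRing A V.1) := fun V => by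
    rw [h𝓘]; exact comap_idealSpec_ideal I V
  let 𝔐 := pullSys (FSch.completionAlong X 𝓘) hX 𝔉
  have hM : 𝔐.IsCoh := isCoh_pullSys _ hX 𝔉 (hL 𝓘) h𝔉
  have hG := isCohFormal_sysFun I hI 𝔐 hM
  obtain ⟨G, hG1, hG2, ⟨α⟩⟩ := S0799.result A I X (FormAlg.sysFun 𝔐) hG (by
    refine ClSubLib.mono hs (QC.isClosed_support (hG.1 0).2) ?_
    exact (support_push (FSch.completionToX X 𝓘 0) (𝔐.F 0)).le)
  obtain ⟨β⟩ := nonempty_complMod_iso I hI 𝔐 G α
  haveI := isIso_toReal (hL 𝓘) h𝔉
  refine ⟨G, hG1, hG2, ⟨asIso (toReal (FSch.completionAlong X 𝓘) hX 𝔉) ≪≫ ?_⟩⟩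
  exact
    { hom := FSch.ModSys.realModMap hX β.inv
      inv := FSch.ModSys.realModMap hX β.hom
      hom_inv_id := by
        refine realMod_hom_ext _ (hL 𝓘) fun k => ?_
        rw [Category.assoc, realModMap_proj _ (hL 𝓘), ← Category.assoc, realModMap_proj _ (hL 𝓘), Category.assoc,
          ← Functor.map_comp, show β.inv.app k ≫ β.hom.app k = 𝟙 _ from
            congrArg (fun m : 𝔐 ⟶ 𝔐 => m.app k) β.inv_hom_id, CategoryTheory.Functor.map_id, Category.id_comp,
          Category.comp_id]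
      inv_hom_id := by
        refine realMod_hom_ext _ (hL 𝓘) fun k => ?_
        rw [Category.assoc, realModMap_proj _ (hL 𝓘), ← Category.assoc, realModMap_proj _ (hL 𝓘), Category.assoc,
          ← Functor.map_comp, show β.hom.app k ≫ β.inv.app k = 𝟙 _ from
            congrArg (fun m : FSch.complMod 𝓘 G ⟶ FSch.complMod 𝓘 G => m.app k) β.hom_inv_id,
          CategoryTheory.Functor.map_id, Category.id_comp, Category.comp_id] }

end Groth.Agent.FSchExist
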