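import Groth.Agent.FSchExist.Algebraize
import Groth.Agent.FSchCoh.ComplExact
import Groth.Agent.Devissage.Filt

/-!
Monomorphisms and epimorphisms of coherent modules are detected on the completion.
-/

universe u

open CategoryTheory CategoryTheory.Limits AlgebraicGeometry TopologicalSpace Opposite
open Groth.Agent.FSchCoh

set_option autoImplicit false
set_option maxHeartbeats 1000000
set_option backward.isDefEq.respectTransparency false
set_option backward.isDefEq.respectTransparency.types false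
set_option linter.style.haveILetI false

noncomputable section

namespace Groth.Agent.FSchExist

variable {X : Scheme.{u}} [IsLocallyNoetherian X] (𝓘 : X.IdealSheafData) (hX : (FSch.completionAlong X 𝓘).IsFormal)

/-- The completion of a morphism. -/
abbrev chat {F G : X.Modules} (u : F ⟶ G) :=
  FSch.ModSys.realModMap hX (FSch.complModMap 𝓘 u)

theorem chat_comp {F G H : X.Modules} (u : F ⟶ G) (v : G ⟶ H) :
    chat 𝓘 hX (u ≫ v) = chat 𝓘 hX u ≫ chat 𝓘 hX v := by
  refine realMod_hom_ext _ (hL 𝓘) fun k => ?_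
  rw [Category.assoc, realModMap_proj _ (hL 𝓘), realModMap_proj _ (hL 𝓘), ← Category.assoc,
    realModMap_proj _ (hL 𝓘), Category.assoc, ← Functor.map_comp, FSch.complModMap_app, FSch.complModMap_app,
    FSch.complModMap_app, Functor.map_comp]

theorem chat_zero (F G : X.Modules) : chat 𝓘 hX (0 : F ⟶ G) = 0 := by
  refine realMod_hom_ext _ (hL 𝓘) fun k => ?_
  haveI := (Scheme.Modules.pullbackPushforwardAdjunction (FSch.completionToX X 𝓘 k)).left_adjoint_additive
  haveI := (FSch.levelMor (FSch.completionAlong X 𝓘) hX k).adj.right_adjoint_additive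
  rw [realModMap_proj _ (hL 𝓘), FSch.complModMap_app, Functor.map_zero, zero_comp]
  refine (congrArg (_ ≫ ·) ?_).trans comp_zero
  exact Functor.map_zero _ _ _

theorem shortExact_chat (S : ShortComplex X.Modules) (hS : S.ShortExact)
    (h1 : Coh.IsCoh S.X₁) (h2 : Coh.IsCoh S.X₂) (h3 : Coh.IsCoh S.X₃) :
    Mono (chat 𝓘 hX S.f) ∧ Epi (chat 𝓘 hX S.g) := by
  haveI hci : ∀ n, IsClosedImmersion (FSch.completionToX X 𝓘 n) := fun n => inferInstance
  obtain ⟨w, hw⟩ := shortExact_gMod (FSch.completionAlong X 𝓘) (FSch.completionToX X 𝓘) (completion_hg 𝓘) hX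
    (fun W => 𝓘.ideal W) (fun W n => FSchCoh.ker_completionToX 𝓘 W.2 n) S hS h1 h2 h3
    (FSch.complModMap 𝓘 S.f) (fun n => FSch.complModMap_app 𝓘 S.f n)
    (FSch.complModMap 𝓘 S.g) (fun n => FSch.complModMap_app 𝓘 S.g n)
  exact ⟨(hw w).mono_f, (hw w).epi_g⟩

theorem mono_chat {F G : X.Modules} (hF : Coh.IsCoh F) (hG : Coh.IsCoh G) (u : F ⟶ G) [Mono u] :
    Mono (chat 𝓘 hX u) :=
  (shortExact_chat 𝓘 hX (ShortComplex.mk u (cokernel.π u) (cokernel.condition u))
    { exact := ShortComplex.exact_cokernel u } hF hG (QC.isCoh_cokernel hF.1 hG u)).1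

theorem epi_chat {F G : X.Modules} (hF : Coh.IsCoh F) (hG : Coh.IsCoh G) (u : F ⟶ G) [Epi u] :
    Epi (chat 𝓘 hX u) :=
  (shortExact_chat 𝓘 hX (ShortComplex.mk (kernel.ι u) u (kernel.condition u))
    { exact := ShortComplex.exact_kernel u } (QC.isCoh_kernel hF hG.1 u) hF hG).2

theorem support_pullback_empty {K : X.Modules} (hK : Coh.IsCoh K) (h : IsZero ((FSch.complMod 𝓘 K).realMod hX)) :
    CohB1.support ((Scheme.Modules.pullback (FSch.completionToX X 𝓘 0)).obj K) = ∅ := by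
  haveI := isIso_pullProj (FSch.completionAlong X 𝓘) hX (FSch.complMod 𝓘 K) (hL 𝓘) (isCoh_complMod hK) 0
  have hz : IsZero ((FSch.complMod 𝓘 K).F 0) := by
    haveI := (FSch.levelMor (FSch.completionAlong X 𝓘) hX 0).adj.left_adjoint_additive
    exact IsZero.of_iso (Functor.map_isZero _ h) (asIso (((FSch.levelMor (FSch.completionAlong X 𝓘) hX 0).adj.homEquiv _ _).symm
      (FSch.realProj (FSch.completionAlong X 𝓘) hX (FSch.complMod 𝓘 K).F (FSch.complMod 𝓘 K).toPush 0))).symm
  exact Set.eq_empty_iff_forall_notMem.2 fun x =>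
    (ClSubLib.notMem_support_iff_isZero _ x).2 (Functor.map_isZero _ hz)

variable {A : Type u} [CommRing A] (J : Ideal A) [IsAdicComplete J A] [X.Over (Spec (CommRingCat.of A))]

theorem isZero_of_completion (hf : IsClosedMap (X ↘ Spec (CommRingCat.of A)).base)
    (h𝓘 : 𝓘 = (FSch.idealSpec A J).comap (X ↘ Spec (CommRingCat.of A))) {K : X.Modules} (hK : Coh.IsCoh K)
    (h : IsZero ((FSch.complMod 𝓘 K).realMod hX)) : IsZero K := by
  have hI : ∀ V : X.affineOpens, 𝓘.ideal V = J.map (W7Cech.secRing A V.1) := fun V => by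
    rw [h𝓘]; exact comap_idealSpec_ideal J V
  obtain ⟨α, -⟩ := exists_iso_modPow_pow (FSch.completionToX X 𝓘 0) J (0 + 1) (ker_completionToX J hI 0) K
  have h0 : CohB1.support (Formal.modPow J 1 K) = ∅ := by
    refine (ClSubLib.support_congr α).trans ?_
    rw [support_push, support_pullback_empty 𝓘 hX hK h, Set.image_empty]
  refine Devissage.isZero_of_support (Set.eq_empty_iff_forall_notMem.2 fun x hx => ?_)
  let φ := X ↘ Spec (CommRingCat.of A)
  have hC : IsClosed (φ.base '' CohB1.support K) := hf _ (QC.isClosed_support hK.2)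
  obtain ⟨p, hp⟩ : ∃ p : PrimeSpectrum A, p = φ.base x := ⟨_, rfl⟩
  obtain ⟨m, hm, hpm⟩ := Ideal.exists_le_maximal p.asIdeal p.isPrime.ne_top
  let M : PrimeSpectrum A := ⟨m, hm.isPrime⟩
  have hsp : p ⤳ M := (PrimeSpectrum.le_iff_specializes p M).1 hpm
  obtain ⟨y, hy, hyM⟩ : M ∈ φ.base '' CohB1.support K := hsp.mem_closed hC ⟨x, hx, hp.symm⟩
  refine Set.eq_empty_iff_forall_notMem.1 h0 y (W7Exist.mem_support_modPow_one J hK (fun U hyU a ha hmem => ?_) hy)
  have ham : a ∈ m := by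
    exact (Ideal.mem_sInf.1 (IsAdicComplete.le_jacobson_bot J ha)) ⟨bot_le, hm⟩
  rw [W7Cech.secRing, RingHom.comp_apply] at hmem
  erw [Scheme.basicOpen_res] at hmem
  have h2 : φ.base y ∈ (Spec (CommRingCat.of A)).basicOpen ((Scheme.ΓSpecIso (CommRingCat.of A)).inv a) := by
    have h3 := hmem.2
    rw [Coh.toGlobal, RingHom.comp_apply] at h3
    erw [← Scheme.preimage_basicOpen_top] at h3
    exact h3
  rw [hyM, basicOpen_eq_of_affine] at h2
  exact h2 ham

theorem mono_epi_iff (hf : IsClosedMap (X ↘ Spec (CommRingCat.of A)).base)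
    (h𝓘 : 𝓘 = (FSch.idealSpec A J).comap (X ↘ Spec (CommRingCat.of A)))
    {F G : X.Modules} (hF : Coh.IsCoh F) (hG : Coh.IsCoh G) (u : F ⟶ G) :
    (Mono (chat 𝓘 hX u) ↔ Mono u) ∧ (Epi (chat 𝓘 hX u) ↔ Epi u) := by
  refine ⟨⟨fun _ => ?_, fun _ => mono_chat 𝓘 hX hF hG u⟩, ⟨fun _ => ?_, fun _ => epi_chat 𝓘 hX hF hG u⟩⟩
  · have hk := QC.isCoh_kernel hF hG.1 u
    haveI := mono_chat 𝓘 hX hk hF (kernel.ι u)
    refine Preadditive.mono_of_isZero_kernel u (isZero_of_completion 𝓘 hX J hf h𝓘 hk ?_)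
    refine IsZero.of_mono_eq_zero (chat 𝓘 hX (kernel.ι u)) ?_
    rw [← cancel_mono (chat 𝓘 hX u), ← chat_comp, kernel.condition, chat_zero, zero_comp]
  · have hc := QC.isCoh_cokernel hF.1 hG u
    haveI := epi_chat 𝓘 hX hG hc (cokernel.π u)
    refine Preadditive.epi_of_isZero_cokernel u (isZero_of_completion 𝓘 hX J hf h𝓘 hc ?_)
    refine IsZero.of_epi_eq_zero (chat 𝓘 hX (cokernel.π u)) ?_
    rw [← cancel_epi (chat 𝓘 hX u), ← chat_comp, cokernel.condition, chat_zero, comp_zero]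

end Groth.Agent.FSchExist
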