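import Groth.Agent.FSchCoh.Epi
import Groth.Agent.FSchCoh.Coherent
import Groth.Agent.W7Exist.Supp

/-!
Points near which a coherent module on a formal scheme vanishes, read off from its smallest level.
-/

universe u

open CategoryTheory CategoryTheory.Limits AlgebraicGeometry TopologicalSpace Opposite
open Groth.Agent.RSFin (sc rsR)
open Groth.Agent.FSchCoh

set_option autoImplicit false
set_option maxHeartbeats 1000000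
set_option backward.isDefEq.respectTransparency false
set_option backward.isDefEq.respectTransparency.types false
set_option linter.style.haveILetI false

noncomputable section

namespace Groth.Agent.FSchExist

variable {𝔛 : FSch.Sys.{u}} (h𝔛 : 𝔛.IsLocNoethFormal)

/-- The sections vanish on the small affine opens around `x`. -/
def NullAt (F : FSch.ModF 𝔛 h𝔛.1) (x : 𝔛.X 0) : Prop :=
  ∃ U : (𝔛.X 0).Opens, x ∈ U ∧ ∀ W : (𝔛.X 0).Opens, IsAffineOpen W → W ≤ U → ∀ t : ModSite.sect F W, t = 0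

/-- The support of the smallest level. -/
def supp0 (F : FSch.ModF 𝔛 h𝔛.1) : Set (𝔛.X 0) := CohB1.support ((pullSys 𝔛 h𝔛.1 F).F 0)

variable {h𝔛}

theorem isClosed_supp0 {F : FSch.ModF 𝔛 h𝔛.1} (hF : FSch.IsCohF 𝔛 h𝔛.1 F) : IsClosed (supp0 h𝔛 F) :=
  QC.isClosed_support (isCoh_pullSys 𝔛 h𝔛.1 F h𝔛 hF 0).2

theorem toReal_bij {F : FSch.ModF 𝔛 h𝔛.1} (hF : FSch.IsCohF 𝔛 h𝔛.1 F) (W : (𝔛.X 0).Opens) :
    Function.Bijective (RSFin.ap (toReal 𝔛 h𝔛.1 F) W) := by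
  haveI := isIso_toReal h𝔛 hF
  refine ⟨RSFin.injective_of_mono _ W, fun z => ⟨RSFin.ap (inv (toReal 𝔛 h𝔛.1 F)) W z, ?_⟩⟩
  rw [← RSFin.ap_comp, IsIso.inv_hom_id]
  rfl

theorem notMem_supp0_iff {F : FSch.ModF 𝔛 h𝔛.1} (hF : FSch.IsCohF 𝔛 h𝔛.1 F) (x : 𝔛.X 0) :
    x ∉ supp0 h𝔛 F ↔ NullAt h𝔛 F x := by
  have hM := isCoh_pullSys 𝔛 h𝔛.1 F h𝔛 hF
  constructor
  · intro hx
    refine ⟨⟨(supp0 h𝔛 F)ᶜ, (isClosed_supp0 hF).isOpen_compl⟩, hx, fun W hW hWU t => (toReal_bij (h𝔛 := h𝔛) hF W).1 ?_⟩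
    rw [map_zero]
    let g : PEmpty.{u + 1} → ML 𝔛 h𝔛.1 (pullSys 𝔛 h𝔛.1 F) W := fun i => i.elim
    have hsp : Submodule.span (OA 𝔛 h𝔛.1 W) (Set.range g) = ⊤ :=
      span_eq_top_of_level h𝔛 hM hW g (eq_top_iff.2 fun z _ => by
        have hz : z = 0 := W7Exist.eq_zero_of_support (fun y hy => hWU (by
          rwa [lvU_zero] at hy)) z
        rw [hz]; exact Submodule.zero_mem _)
    rw [Set.range_eq_empty, Submodule.span_empty] at hsp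
    exact (Submodule.mem_bot _).1 (hsp.symm ▸ Submodule.mem_top)
  · rintro ⟨U, hxU, hU⟩
    refine (QC.notMem_support_iff x).2 fun V hV s => ?_
    obtain ⟨W, hW, hxW, hWle⟩ := exists_isAffineOpen_mem_and_subset (X := 𝔛.X 0) (x := x) (U := V ⊓ U) ⟨hV, hxU⟩
    have e : 𝔛.lvU h𝔛.1 0 W = W := lvU_zero 𝔛 h𝔛.1 W
    refine ⟨𝔛.lvU h𝔛.1 0 W, e.le.trans fun y hy => (hWle hy).1, e.ge hxW, ?_⟩
    obtain ⟨z, hz⟩ := (main_mod 𝔛 h𝔛.1 (pullSys 𝔛 h𝔛.1 F) h𝔛 hM hW).2.1 0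
      (QC.res _ (e.le.trans fun y hy => (hWle hy).1) s)
    obtain ⟨t, ht⟩ := (toReal_bij (h𝔛 := h𝔛) hF W).2 z
    rw [← ht] at hz
    rw [hU W hW (fun y hy => (hWle hy).2) t, map_zero] at hz
    exact hz.symm.trans (map_zero _)

theorem supp0_subset {F : FSch.ModF 𝔛 h𝔛.1} (hF : FSch.IsCohF 𝔛 h𝔛.1 F) {S : Set (𝔛.X 0)}
    (h : ∀ x, x ∉ S → NullAt h𝔛 F x) : supp0 h𝔛 F ⊆ S :=
  fun x hx => by_contra fun hn => (notMem_supp0_iff hF x).2 (h x hn) hx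

theorem NullAt.of_mono {K F : FSch.ModF 𝔛 h𝔛.1} (i : K ⟶ F) [Mono i] {x : 𝔛.X 0} (h : NullAt h𝔛 F x) :
    NullAt h𝔛 K x := by
  obtain ⟨U, hxU, hU⟩ := h
  exact ⟨U, hxU, fun W hW hWU t => RSFin.injective_of_mono i W ((hU W hW hWU _).trans (map_zero _).symm)⟩

theorem NullAt.of_kernel {M N : FSch.ModF 𝔛 h𝔛.1} (φ : M ⟶ N) {x : 𝔛.X 0} (hk : NullAt h𝔛 (kernel φ) x)
    (hN : NullAt h𝔛 N x) : NullAt h𝔛 M x := by
  obtain ⟨U, hxU, hU⟩ := hk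
  obtain ⟨U', hxU', hU'⟩ := hN
  refine ⟨U ⊓ U', ⟨hxU, hxU'⟩, fun W hW hWU t => ?_⟩
  obtain ⟨a, rfl⟩ := (RSFin.kernel_sections φ W).2 t (hU' W hW (hWU.trans inf_le_right) _)
  rw [hU W hW (hWU.trans inf_le_left) a, map_zero]

theorem supp0_subset_of_mono {K F : FSch.ModF 𝔛 h𝔛.1} (i : K ⟶ F) [Mono i] (hK : FSch.IsCohF 𝔛 h𝔛.1 K)
    (hF : FSch.IsCohF 𝔛 h𝔛.1 F) : supp0 h𝔛 K ⊆ supp0 h𝔛 F :=
  supp0_subset hK fun x hx => ((notMem_supp0_iff hF x).1 hx).of_mono i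

theorem supp0_subset_of_kernel {M N : FSch.ModF 𝔛 h𝔛.1} (φ : M ⟶ N) (hM : FSch.IsCohF 𝔛 h𝔛.1 M)
    (hK : FSch.IsCohF 𝔛 h𝔛.1 (kernel φ)) (hN : FSch.IsCohF 𝔛 h𝔛.1 N) :
    supp0 h𝔛 M ⊆ supp0 h𝔛 (kernel φ) ∪ supp0 h𝔛 N :=
  supp0_subset hM fun x hx => by
    simp only [Set.mem_union, not_or] at hx
    exact ((notMem_supp0_iff hK x).1 hx.1).of_kernel φ ((notMem_supp0_iff hN x).1 hx.2)

theorem supp0_subset_of_epi {F Q : FSch.ModF 𝔛 h𝔛.1} (p : F ⟶ Q) [Epi p] : supp0 h𝔛 Q ⊆ supp0 h𝔛 F := by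
  haveI := (FSch.levelMor 𝔛 h𝔛.1 0).adj.leftAdjoint_preservesColimits
  let q : (pullSys 𝔛 h𝔛.1 F).F 0 ⟶ (pullSys 𝔛 h𝔛.1 Q).F 0 := (FSch.levelMor 𝔛 h𝔛.1 0).pull.map p
  haveI : Epi q := inferInstanceAs (Epi ((FSch.levelMor 𝔛 h𝔛.1 0).pull.map p))
  intro x hx hF
  refine hx ?_
  have h1 : IsZero ((DerSch.stalkFunctor (𝔛.X 0) x).obj ((pullSys 𝔛 h𝔛.1 F).F 0)) :=
    (ClSubLib.notMem_support_iff_isZero _ x).1 (fun h => h hF)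
  exact not_not.1 ((ClSubLib.notMem_support_iff_isZero _ x).2
    (IsZero.of_epi ((DerSch.stalkFunctor (𝔛.X 0) x).map q) h1))

theorem supp0_congr {F G : FSch.ModF 𝔛 h𝔛.1} (e : F ≅ G) : supp0 h𝔛 F = supp0 h𝔛 G :=
  Set.Subset.antisymm (supp0_subset_of_epi e.inv) (supp0_subset_of_epi e.hom)

end Groth.Agent.FSchExist
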