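import Groth.Agent.FSchExist.Algebraize
import Groth.Agent.RSFin.Thms

/-!
Algebraizable modules are closed under kernels, images, cokernels and extensions.
-/

universe u

open CategoryTheory CategoryTheory.Limits AlgebraicGeometry TopologicalSpace Opposite
open Groth.Agent.FSchCoh

set_option autoImplicit false
set_option maxHeartbeats 1000000
set_option backward.isDefEq.respectTransparency false
set_option backward.isDefEq.respectTransparency.types false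
set_option linter.style.haveILetI false

noncomputable section

namespace Groth.Agent.FSchExist

variable {A : Type u} [CommRing A] [IsNoetherianRing A] {J : Ideal A} [IsAdicComplete J A]
  {X : Scheme.{u}} {f : X ⟶ Spec (CommRingCat.of A)} [IsSeparated f] [LocallyOfFiniteType f] [QuasiCompact f]
  {𝓘 : X.IdealSheafData} {hX : (FSch.completionAlong X 𝓘).IsFormal}

variable (f) in
/-- Algebraizable with proper support. -/
def IsAlg (𝔉 : FSch.ModF (FSch.completionAlong X 𝓘) hX) : Prop :=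
  ∃ G : X.Modules, Coh.IsCoh G ∧ ClSub.IsProperOver f (CohB1.support G) ∧
    Nonempty (𝔉 ≅ (FSch.complMod 𝓘 G).realMod hX)

omit [IsAdicComplete J A] [IsSeparated f] [QuasiCompact f] in
theorem IsAlg.facts [IsLocallyNoetherian X] {𝔉 : FSch.ModF (FSch.completionAlong X 𝓘) hX} (h : IsAlg f 𝔉) :
    FSch.IsCohF _ hX 𝔉 ∧ ClSub.IsProperOver f (suppX 𝓘 hX 𝔉) := by
  obtain ⟨G, hG, hs, ⟨e⟩⟩ := h
  have hc := isCohF_of_iso_complMod hG e
  exact ⟨hc, ClSubLib.mono hs (isClosed_suppX hc) (suppX_subset_of_iso hG e)⟩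

theorem isAlg_of_proper [IsLocallyNoetherian X] (h𝓘 : 𝓘 = (FSch.idealSpec A J).comap f)
    {𝔉 : FSch.ModF (FSch.completionAlong X 𝓘) hX} (h𝔉 : FSch.IsCohF _ hX 𝔉)
    (hs : ClSub.IsProperOver f (suppX 𝓘 hX 𝔉)) : IsAlg f 𝔉 := by
  letI : X.Over (Spec (CommRingCat.of A)) := ⟨f⟩
  haveI : IsSeparated (X ↘ Spec (CommRingCat.of A)) := ‹IsSeparated f›
  haveI : LocallyOfFiniteType (X ↘ Spec (CommRingCat.of A)) := ‹LocallyOfFiniteType f›
  haveI : QuasiCompact (X ↘ Spec (CommRingCat.of A)) := ‹QuasiCompact f›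
  exact exists_algebraization J h𝓘 𝔉 h𝔉 hs

omit [IsAdicComplete J A] [IsSeparated f] [QuasiCompact f] in
theorem isLocallyNoetherian_of (f : X ⟶ Spec (CommRingCat.of A)) [LocallyOfFiniteType f] : IsLocallyNoetherian X :=
  LocallyOfFiniteType.isLocallyNoetherian f

theorem isAlg_kernel_image_cokernel [IsLocallyNoetherian X] (h𝓘 : 𝓘 = (FSch.idealSpec A J).comap f)
    {𝔉 𝔊 : FSch.ModF (FSch.completionAlong X 𝓘) hX} (h𝔉 : IsAlg f 𝔉) (h𝔊 : IsAlg f 𝔊) (u : 𝔉 ⟶ 𝔊) :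
    IsAlg f (kernel u) ∧ IsAlg f (Abelian.image u) ∧ IsAlg f (cokernel u) := by
  obtain ⟨hF, hsF⟩ := h𝔉.facts
  obtain ⟨hG, hsG⟩ := h𝔊.facts
  have hk := isCohF_kernel (h𝔛 := hL 𝓘) hF hG u
  haveI := hG
  haveI := hF
  have hc : FSch.IsCohF _ hX (cokernel u) := RSFin.isFinitePresentation_cokernel u
  have hi : FSch.IsCohF _ hX (Abelian.image u) := isCohF_kernel (h𝔛 := hL 𝓘) hG hc (cokernel.π u)
  refine ⟨isAlg_of_proper h𝓘 hk (ClSubLib.mono hsF (isClosed_suppX hk) (suppX_mono ?_)),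
    isAlg_of_proper h𝓘 hi (ClSubLib.mono hsG (isClosed_suppX hi) (suppX_mono ?_)),
    isAlg_of_proper h𝓘 hc (ClSubLib.mono hsG (isClosed_suppX hc) (suppX_mono ?_))⟩
  · exact supp0_subset_of_mono (h𝔛 := hL 𝓘) (kernel.ι u) hk hF
  · exact supp0_subset_of_mono (h𝔛 := hL 𝓘) (Abelian.image.ι u) hi hG
  · exact supp0_subset_of_epi (h𝔛 := hL 𝓘) (cokernel.π u)

theorem isAlg_of_kernel [IsLocallyNoetherian X] (h𝓘 : 𝓘 = (FSch.idealSpec A J).comap f)
    {𝔉 𝔊 : FSch.ModF (FSch.completionAlong X 𝓘) hX} (hF : FSch.IsCohF _ hX 𝔉) (h𝔊 : IsAlg f 𝔊) (u : 𝔉 ⟶ 𝔊)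
    (hk : IsAlg f (kernel u)) : IsAlg f 𝔉 := by
  obtain ⟨hK, hsK⟩ := hk.facts
  obtain ⟨hG, hsG⟩ := h𝔊.facts
  refine isAlg_of_proper h𝓘 hF (ClSubLib.mono (ClSubLib.isProperOver_union f hsK hsG) (isClosed_suppX hF) ?_)
  rw [suppX, suppX, suppX, ← Set.image_union]
  exact Set.image_mono (supp0_subset_of_kernel (h𝔛 := hL 𝓘) u hF hK hG)

theorem isAlg_of_shortExact [IsLocallyNoetherian X] (h𝓘 : 𝓘 = (FSch.idealSpec A J).comap f)
    (S : ShortComplex (FSch.ModF (FSch.completionAlong X 𝓘) hX)) (hS : S.ShortExact)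
    (h₂ : FSch.IsCohF _ hX S.X₂) (a₁ : IsAlg f S.X₁) (a₃ : IsAlg f S.X₃) : IsAlg f S.X₂ := by
  haveI := hS.mono_f
  obtain ⟨G, hG, hs, ⟨e⟩⟩ := a₁
  exact isAlg_of_kernel h𝓘 h₂ a₃ S.g
    ⟨G, hG, hs, ⟨(hS.fIsKernel.conePointUniqueUpToIso (kernelIsKernel S.g)).symm ≪≫ e⟩⟩

end Groth.Agent.FSchExist
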