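import Groth.Agent.FormAlg.Thicken
import Groth.Agent.FittLib.Comap
import Groth.Prelude.Def_FSch3

/-!
Closed subschemes cut out by the extension of an ideal of the base, and the direct image of a module on them.
-/

set_option autoImplicit false
set_option maxHeartbeats 1000000
set_option linter.style.haveILetI false
set_option backward.isDefEq.respectTransparency false
set_option backward.isDefEq.respectTransparency.types false
universe u

namespace Groth.Agent.FSchExist

open CategoryTheory CategoryTheory.Limits AlgebraicGeometry TopologicalSpace Opposite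

noncomputable section

variable {A : Type u} [CommRing A] {X : Scheme.{u}} [X.Over (Spec (CommRingCat.of A))]

theorem comap_idealSpec_ideal (J : Ideal A) (V : X.affineOpens) :
    ((FSch.idealSpec A J).comap (X ↘ Spec (CommRingCat.of A))).ideal V = J.map (W7Cech.secRing A V.1) := by
  let φ := (Scheme.ΓSpecIso (CommRingCat.of A)).commRingCatIsoToRingEquiv
  rw [show V = (⟨V.1, V.2⟩ : X.affineOpens) from rfl,
    FittLib.comap_ideal (X ↘ Spec (CommRingCat.of A)) _ (isAffineOpen_top _) V.2 le_top,
    FittLib.idealSpec_ideal_top,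
    show Ideal.comap (Scheme.ΓSpecIso (CommRingCat.of A)).hom.hom J = J.map φ.symm.toRingHom from
      (Ideal.map_symm φ).symm, Ideal.map_map]
  exact congrArg (fun ψ => J.map ψ) (RingHom.ext fun a => rfl)

variable (J : Ideal A) {Z : Scheme.{u}} (j : Z ⟶ X) [IsClosedImmersion j]
  (hj : ∀ V : X.affineOpens, j.ker.ideal V = J.map (W7Cech.secRing A V.1))

include hj in
theorem isIso_unit_of_killed (G : X.Modules) (hG : ∀ a ∈ J, Formal.smulMod A G a = 0) :
    IsIso ((Scheme.Modules.pullbackPushforwardAdjunction j).unit.app G) := by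
  refine (SupportLib.isIso_unit_iff j G).2 fun V a ha s => ?_
  rw [hj V] at ha
  induction ha using Submodule.span_induction with
  | mem z hz =>
    obtain ⟨b, hb, rfl⟩ := hz
    exact congrArg (fun φ => φ.app V.1 s) (hG b hb)
  | zero => exact zero_smul _ _
  | add x y _ _ hx hy => rw [add_smul, hx, hy, add_zero]
  | smul c x _ hx => rw [smul_eq_mul, mul_smul, hx, smul_zero]

include hj in
theorem smulMod_push_eq_zero (Y : Z.Modules) {a : A} (ha : a ∈ J) :
    Formal.smulMod A ((Scheme.Modules.pushforward j).obj Y) a = 0 := by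
  refine Scheme.Modules.hom_ext _ _ fun W => ?_
  ext s
  refine QC.section_eq_of_locally fun x hx => ?_
  obtain ⟨D, hD, hxD, hDle⟩ := exists_isAffineOpen_mem_and_subset (U := W) (x := x) hx
  refine ⟨D, hDle, hxD, ?_⟩
  change QC.res _ _ ((Formal.smulMod A ((Scheme.Modules.pushforward j).obj Y) a).app W s) =
    QC.res _ _ ((0 : (Scheme.Modules.pushforward j).obj Y ⟶ _).app W s)
  rw [QC.app_res, QC.app_res, FormAlg.smulMod_app]
  refine ((SupportLib.isIso_unit_iff j _).1 (FormAlg.isIso_unit_push' j Y) ⟨D, hD⟩ _ ?_ _).trans rfl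
  rw [hj ⟨D, hD⟩]
  exact Ideal.mem_map_of_mem _ ha

omit [IsClosedImmersion j] in
theorem exists_iso_modPow_pow (I : Ideal A) (m : ℕ) [IsClosedImmersion j]
    (hm : ∀ V : X.affineOpens, j.ker.ideal V = (I ^ m).map (W7Cech.secRing A V.1)) (G : X.Modules) :
    ∃ α : Formal.modPow I m G ≅ (Scheme.Modules.pushforward j).obj ((Scheme.Modules.pullback j).obj G),
      Formal.modPowπ I m G ≫ α.hom = (Scheme.Modules.pullbackPushforwardAdjunction j).unit.app G := by
  let adj := Scheme.Modules.pullbackPushforwardAdjunction j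
  obtain ⟨α, hα⟩ := W7Exist.exists_desc_modPow I m (adj.unit.app G) fun a ha => by
    rw [W7Cech.smulMod_natural]
    exact (congrArg (adj.unit.app G ≫ ·) (smulMod_push_eq_zero (I ^ m) j hm _ ha)).trans comp_zero
  let H := Formal.modPow I m G
  haveI := isIso_unit_of_killed (I ^ m) j hm H (W7Exist.π_smulMod I m G)
  let β := (Scheme.Modules.pushforward j).map ((Scheme.Modules.pullback j).map (Formal.modPowπ I m G)) ≫
    inv (adj.unit.app H)
  have hβ : adj.unit.app G ≫ β = Formal.modPowπ I m G := by
    have h := adj.unit.naturality (Formal.modPowπ I m G)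
    show adj.unit.app G ≫ _ ≫ inv (adj.unit.app H) = _
    rw [← Category.assoc, IsIso.comp_inv_eq]
    exact h.symm
  have h1 : α ≫ β = 𝟙 H := by
    rw [← cancel_epi (Formal.modPowπ I m G)]
    exact ((Category.assoc _ _ _).symm.trans ((congrArg (· ≫ β) hα).trans hβ)).trans (Category.comp_id _).symm
  have h2 : β ≫ α = 𝟙 _ := by
    obtain ⟨g, hg⟩ := (FormAlg.pushFF j).map_surjective (β ≫ α)
    have e : g = 𝟙 _ := by
      apply (adj.homEquiv _ _).injective
      rw [Adjunction.homEquiv_unit, Adjunction.homEquiv_unit, hg, CategoryTheory.Functor.map_id]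
      exact ((Category.assoc _ _ _).symm.trans ((congrArg (· ≫ α) hβ).trans hα)).trans (Category.comp_id _).symm
    rw [← hg, e, CategoryTheory.Functor.map_id]
  exact ⟨⟨α, β, h1, h2⟩, hα⟩

end

end Groth.Agent.FSchExist
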